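import Cfsg.Agent.Lib.Recog.CrossChar.Engine

/-!
The cross characteristic bounds for special linear and symplectic groups.
-/

set_option autoImplicit false

namespace Cfsg.Agent.Recog.CrossChar

open Module Matrix

theorem bound {G : Type*} [Group G] {F : Type*} [Field F] [Fintype F] {m : Type*} [Fintype m] [DecidableEq m]
    {K : Type*} [Field K] (hK : ringChar K ≠ ringChar F) {d : ℕ} (ρ : G →* GL (Fin d) K) (e : (m → F) → G)
    (hadd : ∀ a b, e (a + b) = e a * e b) (i₀ : m) (hρ : ρ (e (Pi.single i₀ (1 : F))) ≠ 1) (N : ℕ)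
    (hmove : ∀ a : m → F, a i₀ ≠ 0 → ∃ s : Finset (m → F), N ≤ s.card ∧
      ∀ b ∈ s, ∃ g, ∀ v, ∃ w, e v * g = g * e w ∧ a ⬝ᵥ w = b ⬝ᵥ v) :
    N ≤ d := by
  have hchar : ringChar (AlgebraicClosure K) = ringChar K :=
    (Algebra.ringChar_eq K (AlgebraicClosure K)).symm
  let Φ : G →* Module.End (AlgebraicClosure K) (Fin d → AlgebraicClosure K) :=
    (Matrix.toLinAlgEquiv' (R := AlgebraicClosure K) (n := Fin d)).toMonoidHom.comp
      ((algebraMap K (AlgebraicClosure K)).mapMatrix.toMonoidHom.comp ((Units.coeHom _).comp ρ))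
  have h1 : Φ (e (Pi.single i₀ (1 : F))) ≠ 1 := by
    intro h
    have hinj : Function.Injective
        ((algebraMap K (AlgebraicClosure K)).mapMatrix : Matrix (Fin d) (Fin d) K → _) :=
      fun A B hAB => Matrix.map_injective (FaithfulSMul.algebraMap_injective K (AlgebraicClosure K)) hAB
    refine hρ (Units.ext (hinj ?_))
    rw [Units.val_one, map_one]
    exact Matrix.toLinAlgEquiv'.injective (h.trans (map_one _).symm)
  have := bound_algClosed (hchar.symm ▸ hK) Φ e hadd i₀ h1 N hmove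
  rwa [Module.finrank_fin_fun] at this

variable {F : Type*} [Field F]

theorem exists_sl_step {ι : Type*} [Fintype ι] [DecidableEq ι] (a b : ι → F) (h : a ∉ F ∙ (b - a)) :
    ∃ g : Matrix.SpecialLinearGroup ι F, (g : Matrix ι ι F) *ᵥ a = b := by
  obtain ⟨f, hf, hf'⟩ := Submodule.exists_dual_map_eq_bot_of_notMem h inferInstance
  have hfu : f (b - a) = 0 :=
    (Submodule.mem_bot F).1 (hf' ▸ Submodule.mem_map_of_mem (Submodule.mem_span_singleton_self _))
  set q : ι → F := fun i => (f a)⁻¹ * f (Pi.single i (1 : F)) with hq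
  have hdot : ∀ x : ι → F, q ⬝ᵥ x = (f a)⁻¹ * f x := by
    intro x
    conv_rhs => rw [← Finset.univ_sum_single x, map_sum, Finset.mul_sum]
    refine Finset.sum_congr rfl fun i _ => ?_
    rw [show (Pi.single i (x i) : ι → F) = x i • Pi.single i (1 : F) by
      rw [← Pi.single_smul, smul_eq_mul, mul_one], map_smul, hq, smul_eq_mul]
    ring
  refine ⟨⟨1 + replicateCol Unit (b - a) * replicateRow Unit q, ?_⟩, ?_⟩
  · rw [Matrix.det_one_add_replicateCol_mul_replicateRow, hdot, hfu, mul_zero, add_zero]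
  · show (1 + replicateCol Unit (b - a) * replicateRow Unit q : Matrix ι ι F) *ᵥ a = b
    rw [Matrix.add_mulVec, Matrix.one_mulVec, ← Matrix.vecMulVec_eq Unit, Matrix.vecMulVec_mulVec]
    rw [hdot, inv_mul_cancel₀ hf]
    simp

/-- The special linear group moves any nonzero vector to any other. -/
theorem exists_sl {ι : Type*} [Fintype ι] [DecidableEq ι] (hι : 2 ≤ Fintype.card ι) (a b : ι → F) (ha : a ≠ 0)
    (hb : b ≠ 0) : ∃ g : Matrix.SpecialLinearGroup ι F, (g : Matrix ι ι F) *ᵥ a = b := by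
  have key : ∀ x y : ι → F, x ≠ 0 → y ∉ F ∙ x → x ∉ F ∙ (y - x) := by
    intro x y hx hy hmem
    obtain ⟨s, hs⟩ := Submodule.mem_span_singleton.1 hmem
    have hs0 : s ≠ 0 := fun h => hx (by rw [← hs, h, zero_smul])
    refine hy (Submodule.mem_span_singleton.2 ⟨1 + s⁻¹, ?_⟩)
    have : y - x = s⁻¹ • x := by
      nth_rewrite 2 [← hs]; rw [smul_smul, inv_mul_cancel₀ hs0, one_smul]
    rw [add_smul, one_smul, ← this]; abel
  by_cases h : b ∈ F ∙ a
  · obtain ⟨c, -, hc⟩ := SetLike.exists_of_lt (lt_top_iff_ne_top.2 (show F ∙ a ≠ ⊤ from fun e => by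
      have := finrank_span_singleton (K := F) ha
      rw [e, finrank_top, Module.finrank_pi] at this
      omega))
    have hc0 : c ≠ 0 := fun e => hc (e ▸ zero_mem _)
    have hbc : b ∉ F ∙ c := fun e => hc (by
      obtain ⟨s, hs⟩ := Submodule.mem_span_singleton.1 h
      obtain ⟨t, ht⟩ := Submodule.mem_span_singleton.1 e
      have ht0 : t ≠ 0 := fun e' => hb (by rw [← ht, e', zero_smul])
      refine Submodule.mem_span_singleton.2 ⟨t⁻¹ * s, ?_⟩
      rw [← smul_smul, hs, ← ht, smul_smul, inv_mul_cancel₀ ht0, one_smul])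
    obtain ⟨g, hg⟩ := exists_sl_step a c (key a c ha hc)
    obtain ⟨g', hg'⟩ := exists_sl_step c b (key c b hc0 hbc)
    exact ⟨g' * g, by rw [Matrix.SpecialLinearGroup.coe_mul, ← Matrix.mulVec_mulVec, hg, hg']⟩
  · exact exists_sl_step a b (key a b ha h)

/-- The top row of a unipotent radical. -/
def slE {k : ℕ} (v : Fin k → F) : Matrix.SpecialLinearGroup (Fin (k + 1)) F :=
  ⟨Matrix.of (Fin.cons (Fin.cons 1 v) fun i => Fin.cons 0 ((1 : Matrix (Fin k) (Fin k) F) i)), by
    rw [Matrix.det_succ_column_zero, Finset.sum_eq_single 0]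
    · simp only [Fin.val_zero, pow_zero, one_mul, Matrix.of_apply, Fin.cons_zero, Fin.succAbove_zero]
      exact Eq.trans (congrArg Matrix.det rfl) Matrix.det_one
    · intro j _ hj
      obtain ⟨i, rfl⟩ := Fin.exists_succ_eq.2 hj
      simp
    · simp⟩

/-- The Levi factor. -/
def slLevi {k : ℕ} (h : Matrix.SpecialLinearGroup (Fin k) F) : Matrix.SpecialLinearGroup (Fin (k + 1)) F :=
  ⟨Matrix.of (Fin.cons (Fin.cons 1 0) fun i => Fin.cons 0 ((h : Matrix (Fin k) (Fin k) F) i)), by
    rw [Matrix.det_succ_row_zero, Finset.sum_eq_single 0]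
    · simp only [Fin.val_zero, pow_zero, one_mul, Matrix.of_apply, Fin.cons_zero, Fin.succAbove_zero]
      exact Eq.trans (congrArg Matrix.det rfl) h.2
    · intro j _ hj
      obtain ⟨i, rfl⟩ := Fin.exists_succ_eq.2 hj
      simp
    · simp⟩

theorem sl_bound [Fintype F] {k : ℕ} (hk : 2 ≤ k) {K : Type*} [Field K] (hK : ringChar K ≠ ringChar F) {d : ℕ}
    (ρ : Matrix.SpecialLinearGroup (Fin (k + 1)) F →* GL (Fin d) K)
    (hker : ρ.ker ≤ Subgroup.center (Matrix.SpecialLinearGroup (Fin (k + 1)) F)) :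
    Fintype.card F ^ k - 1 ≤ d := by
  classical
  have hadd : ∀ a b : Fin k → F, slE (a + b) = slE a * slE b := by
    intro a b
    refine Subtype.ext ?_
    rw [Matrix.SpecialLinearGroup.coe_mul]
    ext i j
    rw [Matrix.mul_apply, Fin.sum_univ_succ]
    refine Fin.cases ?_ (fun i => ?_) i <;> refine Fin.cases ?_ (fun j => ?_) j <;>
      simp [slE, Matrix.one_apply, Fin.sum_univ_succ, Finset.sum_ite_eq, Finset.sum_ite_eq', add_comm]
  have i₀ : Fin k := ⟨0, by omega⟩
  refine bound hK ρ slE hadd i₀ ?_ _ fun a ha => ?_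
  · intro h
    have hc := Subgroup.mem_center_iff.1 (hker h)
    obtain ⟨i₁, hi₁⟩ : ∃ i₁ : Fin k, i₁ ≠ i₀ := Fintype.exists_ne_of_one_lt_card (by rw [Fintype.card_fin]; omega) i₀
    obtain ⟨g, hg⟩ := exists_sl (F := F) (by rw [Fintype.card_fin]; omega)
      (Pi.single i₀ (1 : F) : Fin k → F) (Pi.single i₁ (1 : F)) (by simp) (by simp)
    have := congrArg Subtype.val (hc (⟨Matrix.transvection i₀.succ i₁.succ (1 : F),
        Matrix.det_transvection_of_ne _ _ (fun e => hi₁ (Fin.succ_inj.1 e).symm) _⟩ :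
          Matrix.SpecialLinearGroup (Fin (k + 1)) F))
    change Matrix.transvection i₀.succ i₁.succ (1 : F) * (slE (Pi.single i₀ (1 : F))).1 =
      (slE (Pi.single i₀ (1 : F))).1 * Matrix.transvection i₀.succ i₁.succ (1 : F) at this
    have h00 := congrFun (congrFun this 0) i₁.succ
    rw [Matrix.mul_transvection_apply_same, Matrix.transvection_mul_apply_of_ne _ _ _ _ (Fin.succ_ne_zero i₀).symm] at h00
    simp [slE, Pi.single_apply, hi₁] at h00
  · refine ⟨Finset.univ.erase 0, ?_, fun b hb => ?_⟩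
    · rw [Finset.card_erase_of_mem (Finset.mem_univ _), Finset.card_univ, Fintype.card_fun, Fintype.card_fin]
    · obtain ⟨g, hg⟩ := exists_sl (by rw [Fintype.card_fin]; omega) a b (fun e => ha (by rw [e]; rfl))
        (Finset.ne_of_mem_erase hb)
      refine ⟨slLevi g, fun v => ⟨v ᵥ* (g : Matrix (Fin k) (Fin k) F), ?_, ?_⟩⟩
      · refine Subtype.ext ?_
        rw [Matrix.SpecialLinearGroup.coe_mul, Matrix.SpecialLinearGroup.coe_mul]
        ext i j
        rw [Matrix.mul_apply, Matrix.mul_apply, Fin.sum_univ_succ, Fin.sum_univ_succ]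
        refine Fin.cases ?_ (fun i => ?_) i <;> refine Fin.cases ?_ (fun j => ?_) j <;>
          simp [slE, slLevi, Matrix.vecMul, dotProduct, Matrix.one_apply, Finset.sum_ite_eq, Finset.sum_ite_eq']
      · rw [dotProduct_comm, ← Matrix.dotProduct_mulVec, hg, dotProduct_comm]

/-- The radical element. -/
def spS {k : ℕ} (v : Fin (k + 1) → F) : Matrix (Fin (k + 1)) (Fin (k + 1)) F :=
  Matrix.of fun i j => if i = 0 then v j else if j = 0 then v i else 0

theorem spS_transpose {k : ℕ} (v : Fin (k + 1) → F) : (spS v)ᵀ = spS v := by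
  ext i j
  simp only [spS, Matrix.transpose_apply, Matrix.of_apply]
  split_ifs <;> simp_all

theorem spS_add {k : ℕ} (v w : Fin (k + 1) → F) : spS (v + w) = spS v + spS w := by
  ext i j
  simp only [spS, Matrix.add_apply, Matrix.of_apply, Pi.add_apply]
  split_ifs <;> simp

theorem upper_mem {k : ℕ} (S : Matrix (Fin k) (Fin k) F) (hS : Sᵀ = S) :
    Matrix.fromBlocks 1 S 0 1 ∈ Matrix.symplecticGroup (Fin k) F := by
  rw [SymplecticGroup.mem_iff, Matrix.J, Matrix.fromBlocks_transpose, Matrix.fromBlocks_multiply,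
    Matrix.fromBlocks_multiply]
  simp [hS]

theorem levi_mem {k : ℕ} (M N : Matrix (Fin k) (Fin k) F) (h : M * Nᵀ = 1) :
    Matrix.fromBlocks M 0 0 N ∈ Matrix.symplecticGroup (Fin k) F := by
  rw [SymplecticGroup.mem_iff, Matrix.J, Matrix.fromBlocks_transpose, Matrix.fromBlocks_multiply,
    Matrix.fromBlocks_multiply]
  have h' : N * Mᵀ = 1 := by
    have := congrArg Matrix.transpose h
    rwa [Matrix.transpose_mul, Matrix.transpose_transpose, Matrix.transpose_one] at this
  simp [h, h']

def spE {k : ℕ} (v : Fin (k + 1) → F) : ↥(Matrix.symplecticGroup (Fin (k + 1)) F) :=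
  ⟨Matrix.fromBlocks 1 (spS v) 0 1, upper_mem _ (spS_transpose v)⟩

theorem sp_bound [Fintype F] {k : ℕ} (hk : 1 ≤ k) {K : Type*} [Field K] (hK : ringChar K ≠ ringChar F)
    (hodd : Odd (Fintype.card F)) {d : ℕ}
    (ρ : ↥(Matrix.symplecticGroup (Fin (k + 1)) F) →* GL (Fin d) K)
    (hker : ρ.ker ≤ Subgroup.center ↥(Matrix.symplecticGroup (Fin (k + 1)) F)) :
    Fintype.card F ^ k * (Fintype.card F - 1) / 2 ≤ d := by
  classical
  have h2 : (2 : F) ≠ 0 := by
    have := FiniteField.odd_card_of_char_ne_two (F := F)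
    refine Ring.two_ne_zero fun e => ?_
    have h := (FiniteField.even_card_iff_char_two (F := F)).1 e
    rw [Nat.odd_iff] at hodd
    omega
  have hadd : ∀ a b : Fin (k + 1) → F, spE (a + b) = spE a * spE b := by
    intro a b
    refine Subtype.ext ?_
    show Matrix.fromBlocks 1 (spS (a + b)) 0 1 = Matrix.fromBlocks 1 (spS a) 0 1 * Matrix.fromBlocks 1 (spS b) 0 1
    rw [Matrix.fromBlocks_multiply, spS_add]
    simp [add_comm]
  refine bound hK ρ spE hadd 0 ?_ _ fun a ha => ?_
  · intro h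
    have hc := Subgroup.mem_center_iff.1 (hker h)
    have := congrArg Subtype.val (hc ⟨_, SymplecticGroup.J_mem (l := Fin (k + 1)) (R := F)⟩)
    change Matrix.J (Fin (k + 1)) F * Matrix.fromBlocks 1 (spS (Pi.single 0 1)) 0 1 =
      Matrix.fromBlocks 1 (spS (Pi.single 0 1)) 0 1 * Matrix.J (Fin (k + 1)) F at this
    rw [Matrix.J, Matrix.fromBlocks_multiply, Matrix.fromBlocks_multiply, Matrix.fromBlocks_inj] at this
    have h0 := congrFun (congrFun this.1 0) 0
    simp [spS] at h0
  · -- the parameters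
    obtain ⟨sq, hsq, hsq'⟩ : ∃ sq : Finset F, (Fintype.card F - 1) / 2 ≤ sq.card ∧ ∀ x ∈ sq, ∃ t, t ≠ 0 ∧ x = t * t := by
      refine ⟨(Finset.univ.erase 0).image fun t : F => t * t, ?_, fun x hx => ?_⟩
      · have h := Finset.card_le_mul_card_image (f := fun t : F => t * t) (Finset.univ.erase (0 : F)) 2 (by
          intro x hx
          obtain ⟨t, -, rfl⟩ := Finset.mem_image.1 hx
          refine (Finset.card_le_card (t := ({t, -t} : Finset F)) fun y hy => ?_).trans Finset.card_le_two
          rw [Finset.mem_insert, Finset.mem_singleton]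
          exact mul_self_eq_mul_self_iff.1 (Finset.mem_filter.1 hy).2)
        rw [Finset.card_erase_of_mem (Finset.mem_univ _), Finset.card_univ] at h
        omega
      · obtain ⟨t, ht, rfl⟩ := Finset.mem_image.1 hx
        exact ⟨t, Finset.ne_of_mem_erase ht, rfl⟩
    refine ⟨(sq ×ˢ (Finset.univ : Finset (Fin k → F))).image fun p => (Fin.cons (p.1 * a 0) p.2 : Fin (k + 1) → F), ?_,
      fun b hb => ?_⟩
    · rw [Finset.card_image_of_injective]
      · rw [Finset.card_product, Finset.card_univ, Fintype.card_fun, Fintype.card_fin]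
        obtain ⟨c, hc⟩ := hodd
        rw [hc, show 2 * c + 1 - 1 = 2 * c by omega, mul_left_comm, Nat.mul_div_cancel_left _ (by norm_num), mul_comm]
        rw [hc] at hsq
        exact Nat.mul_le_mul_right _ (by omega)
      · intro p p' hpp'
        obtain ⟨e1, e2⟩ := Fin.cons_inj.1 hpp'
        exact Prod.ext (mul_right_cancel₀ ha e1) e2
    · obtain ⟨⟨x, r⟩, hp, rfl⟩ := Finset.mem_image.1 hb
      obtain ⟨t, ht, rfl⟩ := hsq' x (Finset.mem_product.1 hp).1
      -- the row operation
      set y : Fin k → F := fun j => (r j - t * a j.succ) / (2 * t * a 0) with hy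
      let M : Matrix (Fin (k + 1)) (Fin (k + 1)) F :=
        Matrix.of (Fin.cons (Fin.cons t⁻¹ fun j => -(t⁻¹ * y j)) fun i => Fin.cons 0 ((1 : Matrix (Fin k) (Fin k) F) i))
      let M' : Matrix (Fin (k + 1)) (Fin (k + 1)) F :=
        Matrix.of (Fin.cons (Fin.cons t y) fun i => Fin.cons 0 ((1 : Matrix (Fin k) (Fin k) F) i))
      have h0s : ∀ j : Fin k, ¬ (0 : Fin (k + 1)) = j.succ := fun j => (Fin.succ_ne_zero j).symm
      have hMM : M' * M = 1 := by
        ext i j
        rw [Matrix.mul_apply, Fin.sum_univ_succ]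
        refine Fin.cases ?_ (fun i => ?_) i <;> refine Fin.cases ?_ (fun j => ?_) j <;>
          simp [M, M', Matrix.one_apply, ht, h0s]
      have hMM' : M * M'ᵀᵀ = 1 := by rw [Matrix.transpose_transpose]; exact mul_eq_one_comm.1 hMM
      refine ⟨⟨Matrix.fromBlocks M 0 0 M'ᵀ, levi_mem M M'ᵀ hMM'⟩, fun v => ?_⟩
      refine ⟨Fin.cons (t * t * v 0 + 2 * t * ∑ l, y l * v l.succ) (fun j => t * v j.succ), ?_, ?_⟩
      · refine Subtype.ext ?_
        show Matrix.fromBlocks 1 (spS v) 0 1 * Matrix.fromBlocks M 0 0 M'ᵀ =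
          Matrix.fromBlocks M 0 0 M'ᵀ * Matrix.fromBlocks 1 (spS _) 0 1
        have key : M' * spS v * M'ᵀ = spS (Fin.cons (t * t * v 0 + 2 * t * ∑ l, y l * v l.succ)
            (fun j => t * v j.succ)) := by
          ext i j
          rw [Matrix.mul_apply, Fin.sum_univ_succ]
          simp only [Matrix.mul_apply, Fin.sum_univ_succ]
          refine Fin.cases ?_ (fun i => ?_) i <;> refine Fin.cases ?_ (fun j => ?_) j <;>
            simp [M', spS, Matrix.one_apply, Finset.mul_sum, h0s]
          · rw [add_mul, Finset.sum_mul, add_assoc, ← Finset.sum_add_distrib]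
            congr 1
            · ring
            · exact Finset.sum_congr rfl fun l _ => by ring
          · ring
        rw [Matrix.fromBlocks_multiply, Matrix.fromBlocks_multiply, ← key, ← Matrix.mul_assoc, ← Matrix.mul_assoc,
          mul_eq_one_comm.1 hMM]
        simp
      · rw [dotProduct, dotProduct, Fin.sum_univ_succ, Fin.sum_univ_succ]
        simp only [Fin.cons_zero, Fin.cons_succ, mul_add, Finset.mul_sum, add_assoc, ← Finset.sum_add_distrib]
        congr 1
        · ring
        · refine Finset.sum_congr rfl fun l _ => ?_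
          simp only [hy]
          field_simp
          ring

end Cfsg.Agent.Recog.CrossChar
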