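import Mathlib

/-!
A lower bound for the degree of a representation in cross characteristic from an elementary abelian subgroup.
-/

set_option autoImplicit false

namespace Cfsg.Agent.Recog.CrossChar

open Module Matrix

variable {G : Type*} [Group G] {L : Type*} [Field L] [IsAlgClosed L] {V : Type*} [AddCommGroup V] [Module L V]
  [FiniteDimensional L V]

/-- A common eigenvector in a nonzero invariant subspace of commuting operators. -/
theorem exists_common {ι : Type*} (f : ι → Module.End L V) (hf : ∀ i j, Commute (f i) (f j)) (R : Submodule L V)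
    (hR : R ≠ ⊥) (hinv : ∀ i, ∀ x ∈ R, f i x ∈ R) :
    ∃ (w : V) (χ : ι → L), w ∈ R ∧ w ≠ 0 ∧ ∀ i, f i w = χ i • w := by
  classical
  let P : Set (Submodule L V) := {W | W ≠ ⊥ ∧ W ≤ R ∧ ∀ i, ∀ x ∈ W, f i x ∈ W}
  obtain ⟨W, ⟨hW0, hWR, hWinv⟩, hmin⟩ :=
    (wellFounded_lt : WellFounded ((· < ·) : Submodule L V → Submodule L V → Prop)).has_min P ⟨R, hR, le_rfl, hinv⟩
  obtain ⟨w, hw, hw0⟩ := (Submodule.ne_bot_iff W).1 hW0
  have key : ∀ i, ∃ μ : L, f i w = μ • w := by
    intro i
    haveI : Nontrivial W := Submodule.nontrivial_iff_ne_bot.2 hW0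
    obtain ⟨μ, hμ⟩ := Module.End.exists_eigenvalue ((f i).restrict (hWinv i))
    obtain ⟨x, hx, hx0⟩ := hμ.exists_hasEigenvector
    have hxe : f i (x : V) = μ • (x : V) := congrArg Subtype.val (Module.End.mem_eigenspace_iff.1 hx)
    set W' := W ⊓ Module.End.eigenspace (f i) μ
    have hW' : W' ∈ P := by
      refine ⟨(Submodule.ne_bot_iff _).2 ⟨x, ⟨x.2, Module.End.mem_eigenspace_iff.2 hxe⟩,
        fun h => hx0 (Subtype.ext h)⟩, inf_le_left.trans hWR, fun j y hy => ⟨hWinv j y hy.1, ?_⟩⟩
      refine Module.End.mem_eigenspace_iff.2 ?_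
      have h1 := LinearMap.congr_fun (hf i j).eq y
      rw [Module.End.mul_apply, Module.End.mul_apply] at h1
      rw [h1, Module.End.mem_eigenspace_iff.1 hy.2, map_smul]
    have heq : W' = W := eq_of_le_of_not_lt inf_le_left (hmin W' hW')
    refine ⟨μ, Module.End.mem_eigenspace_iff.1 ?_⟩
    exact (show w ∈ W' by rw [heq]; exact hw).2
  choose χ hχ using key
  exact ⟨w, χ, hWR hw, hw0, hχ⟩

variable {F : Type*} [Field F] [Fintype F] {m : Type*} [Fintype m] [DecidableEq m]

theorem linearIndependent_of_chars {ι : Type*} (f : ι → Module.End L V) {β : Type*} (s : Finset β) (x : β → V)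
    (θ : β → ι → L) (hx : ∀ b ∈ s, x b ≠ 0) (he : ∀ b ∈ s, ∀ i, f i (x b) = θ b i • x b)
    (hθ : ∀ b ∈ s, ∀ c ∈ s, θ b = θ c → b = c) :
    ∀ c : β → L, ∑ b ∈ s, c b • x b = 0 → ∀ b ∈ s, c b = 0 := by
  classical
  induction s using Finset.induction_on with
  | empty => simp
  | insert a s ha ih =>
    intro c hc
    have hs := ih (fun b hb => hx b (Finset.mem_insert_of_mem hb)) (fun b hb => he b (Finset.mem_insert_of_mem hb))
      (fun b hb c hc => hθ b (Finset.mem_insert_of_mem hb) c (Finset.mem_insert_of_mem hc))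
    have hz : ∀ b ∈ s, c b = 0 := by
      intro b hb
      obtain ⟨i, hi⟩ : ∃ i, θ b i ≠ θ a i := by
        by_contra h
        push Not at h
        have := hθ b (Finset.mem_insert_of_mem hb) a (Finset.mem_insert_self _ _) (funext h)
        exact ha (this ▸ hb)
      have h1 := congrArg (f i) hc
      rw [map_sum, map_zero] at h1
      have h2 : ∑ b ∈ insert a s, (c b * (θ b i - θ a i)) • x b = 0 := by
        calc ∑ b ∈ insert a s, (c b * (θ b i - θ a i)) • x b
            = ∑ b ∈ insert a s, f i (c b • x b) - θ a i • ∑ b ∈ insert a s, c b • x b := by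
              rw [Finset.smul_sum, ← Finset.sum_sub_distrib]
              refine Finset.sum_congr rfl fun b hb => ?_
              rw [map_smul, he b hb, smul_smul, smul_smul, ← sub_smul]
              congr 1; ring
          _ = 0 := by rw [h1, hc, smul_zero, sub_zero]
      rw [Finset.sum_insert ha, sub_self, mul_zero, zero_smul, zero_add] at h2
      exact (mul_eq_zero.1 (hs _ h2 b hb)).resolve_right (sub_ne_zero.2 hi)
    intro b hb
    rcases Finset.mem_insert.1 hb with rfl | hb
    · rw [Finset.sum_insert ha, Finset.sum_eq_zero (fun b hb => by rw [hz b hb, zero_smul]), add_zero] at hc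
      exact (smul_eq_zero.1 hc).resolve_right (hx _ (Finset.mem_insert_self _ _))
    · exact hz b hb

/-- The bound for an algebraically closed field. -/
theorem bound_algClosed (hK : ringChar L ≠ ringChar F) (Φ : G →* Module.End L V) (e : (m → F) → G)
    (hadd : ∀ a b, e (a + b) = e a * e b) (i₀ : m) (hρ : Φ (e (Pi.single i₀ (1 : F))) ≠ 1) (N : ℕ)
    (hmove : ∀ a : m → F, a i₀ ≠ 0 → ∃ s : Finset (m → F), N ≤ s.card ∧
      ∀ b ∈ s, ∃ g, ∀ v, ∃ w, e v * g = g * e w ∧ a ⬝ᵥ w = b ⬝ᵥ v) :
    N ≤ finrank L V := by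
  classical
  set p := ringChar F with hp
  haveI : Fact p.Prime := ⟨CharP.char_is_prime F p⟩
  have he0 : e 0 = 1 := by
    have := hadd 0 0
    rw [add_zero] at this
    exact mul_eq_left.1 this.symm
  let f : (m → F) → Module.End L V := fun v => Φ (e v)
  have hcomm : ∀ a b, Commute (f a) (f b) := fun a b => by
    change Φ (e a) * Φ (e b) = Φ (e b) * Φ (e a)
    rw [← map_mul, ← map_mul, ← hadd, ← hadd, add_comm]
  set T := Φ (e (Pi.single i₀ (1 : F))) with hT
  have hT' : f (Pi.single i₀ (1 : F)) = T := rfl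
  have hR : LinearMap.range (T - 1) ≠ ⊥ := fun h => hρ (sub_eq_zero.1 (LinearMap.range_eq_bot.1 h))
  obtain ⟨w, χ, ⟨u, hu⟩, hw0, hχ⟩ := exists_common f hcomm _ hR (fun i x hx => by
    obtain ⟨y, rfl⟩ := hx
    refine ⟨f i y, ?_⟩
    have h := LinearMap.congr_fun (hcomm (Pi.single i₀ (1 : F)) i).eq y
    rw [Module.End.mul_apply, Module.End.mul_apply, hT'] at h
    simp only [LinearMap.sub_apply, Module.End.one_apply, map_sub, h])
  have hmul : ∀ a b, χ (a + b) = χ a * χ b := fun a b => by
    refine smul_left_injective L hw0 ?_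
    show χ (a + b) • w = (χ a * χ b) • w
    have h : f (a + b) = f a * f b := by
      change Φ (e (a + b)) = Φ (e a) * Φ (e b)
      rw [hadd, map_mul]
    rw [← hχ, h, Module.End.mul_apply, hχ b, map_smul, hχ a, smul_smul, mul_comm]
  have hχ0 : χ 0 = 1 := by
    refine smul_left_injective L hw0 ?_
    show χ 0 • w = (1 : L) • w
    rw [← hχ, one_smul]
    change Φ (e 0) w = w
    rw [he0, map_one, Module.End.one_apply]
  let ψ : AddChar F L :=
    { toFun := fun x => χ (Pi.single i₀ x)
      map_zero_eq_one' := by rw [Pi.single_zero, hχ0]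
      map_add_eq_mul' := fun x y => by rw [Pi.single_add, hmul] }
  have hψ1 : ψ 1 ≠ 1 := by
    intro h1
    have hTw : T w = w := by
      rw [← hT', hχ, show χ (Pi.single i₀ (1 : F)) = 1 from h1, one_smul]
    have hit : ∀ i : ℕ, (T ^ i) u = u + (i : L) • w := by
      intro i
      induction i with
      | zero => simp
      | succ i ih =>
        rw [pow_succ', Module.End.mul_apply, ih, map_add, map_smul, hTw, Nat.cast_succ, add_smul, one_smul, ← hu,
          LinearMap.sub_apply, Module.End.one_apply]
        abel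
    have hTp : T ^ p = 1 := by
      have hn : ∀ n : ℕ, T ^ n = f (n • (Pi.single i₀ (1 : F) : m → F)) := by
        intro n
        induction n with
        | zero => simp [f, he0]
        | succ n ih => simp only [f, pow_succ, succ_nsmul, hadd, map_mul] at ih ⊢; rw [ih]
      rw [hn, show (p • (Pi.single i₀ (1 : F) : m → F)) = 0 by
        ext j; rw [Pi.smul_apply, nsmul_eq_mul, CharP.cast_eq_zero F p, zero_mul, Pi.zero_apply]]
      simp [f, he0]
    have h2 := hit p
    rw [hTp, Module.End.one_apply, left_eq_add, smul_eq_zero] at h2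
    rcases h2 with h2 | h2
    · rcases (Nat.dvd_prime (Fact.out : p.Prime)).1 (ringChar.dvd h2) with h | h
      · exact CharP.ringChar_ne_one h
      · exact hK h
    · exact hw0 h2
  have hinj : Function.Injective fun a : F => AddChar.mulShift ψ a := by
    intro a b hab
    by_contra hne
    apply hψ1
    have h := DFunLike.congr_fun hab (a - b)⁻¹
    simp only [AddChar.mulShift_apply] at h
    have h2 : ψ (a * (a - b)⁻¹) = ψ ((a - b) * (a - b)⁻¹) * ψ (b * (a - b)⁻¹) := by
      rw [← AddChar.map_add_eq_mul]; congr 1; ring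
    rw [mul_inv_cancel₀ (sub_ne_zero.2 hne), ← h] at h2
    refine (mul_eq_right₀ ?_).1 h2.symm
    intro h0
    have := AddChar.map_add_eq_mul ψ (a * (a - b)⁻¹) (-(a * (a - b)⁻¹))
    rw [add_neg_cancel, AddChar.map_zero_eq_one, h0, zero_mul] at this
    exact one_ne_zero this
  have hliC : LinearIndependent L (fun χ : AddChar F L => fun a : Multiplicative F => χ a.toAdd) :=
    (linearIndependent_monoidHom (Multiplicative F) L).comp _ (AddChar.toMonoidHomEquiv).injective
  haveI : Finite (AddChar F L) := hliC.finite_of_isNoetherian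
  haveI := Fintype.ofFinite (AddChar F L)
  have hcard : Fintype.card (AddChar F L) ≤ Fintype.card F := by
    have := hliC.fintype_card_le_finrank
    rwa [Module.finrank_pi, Fintype.card_multiplicative] at this
  have hsurj : Function.Surjective fun a : F => AddChar.mulShift ψ a :=
    ((Fintype.bijective_iff_injective_and_card _).2
      ⟨hinj, le_antisymm (Fintype.card_le_of_injective _ hinj) hcard⟩).2
  have hcoord : ∀ j, ∃ a : F, ∀ x, χ (Pi.single j x) = ψ (a * x) := by
    intro j
    obtain ⟨a, ha⟩ := hsurj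
      { toFun := fun x => χ (Pi.single j x)
        map_zero_eq_one' := by rw [Pi.single_zero, hχ0]
        map_add_eq_mul' := fun x y => by rw [Pi.single_add, hmul] }
    exact ⟨a, fun x => (DFunLike.congr_fun ha x).symm⟩
  choose a ha using hcoord
  have hχv : ∀ v, χ v = ψ (a ⬝ᵥ v) := by
    intro v
    have h : ∀ s : Finset m, χ (∑ j ∈ s, Pi.single j (v j)) = ψ (∑ j ∈ s, a j * v j) := by
      intro s
      induction s using Finset.induction_on with
      | empty => simp [hχ0]
      | insert j s hj ih => rw [Finset.sum_insert hj, Finset.sum_insert hj, hmul, AddChar.map_add_eq_mul, ih, ha]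
    have := h Finset.univ
    rwa [Finset.univ_sum_single] at this
  have ha0 : a i₀ ≠ 0 := by
    intro h
    apply hψ1
    have := ha i₀ 1
    rw [h, zero_mul, AddChar.map_zero_eq_one] at this
    exact this
  obtain ⟨s, hs, hg⟩ := hmove a ha0
  choose g hg using hg
  let x : (m → F) → V := fun b => if hb : b ∈ s then Φ (g b hb) w else 0
  have hxb : ∀ b (hb : b ∈ s), x b = Φ (g b hb) w := fun b hb => dif_pos hb
  have hxe : ∀ b ∈ s, ∀ v, f v (x b) = ψ (b ⬝ᵥ v) • x b := by
    intro b hb v
    obtain ⟨v', hv1, hv2⟩ := hg b hb v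
    rw [hxb b hb, ← hv2, ← hχv, ← map_smul, ← hχ]
    change (Φ (e v) * Φ (g b hb)) w = (Φ (g b hb) * Φ (e v')) w
    rw [← map_mul, ← map_mul, hv1]
  have hx0 : ∀ b ∈ s, x b ≠ 0 := by
    intro b hb h
    rw [hxb b hb] at h
    have := congrArg (Φ (g b hb)⁻¹) h
    rw [← Module.End.mul_apply, ← map_mul, inv_mul_cancel, map_one, Module.End.one_apply, map_zero] at this
    exact hw0 this
  have hli : LinearIndependent L (fun b : s => x b) := by
    rw [Fintype.linearIndependent_iff]
    intro c hc i
    have h := linearIndependent_of_chars f s x (fun b v => ψ (b ⬝ᵥ v)) hx0 hxe (fun b _ b' _ h => by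
      ext j
      refine hinj ?_
      refine DFunLike.ext _ _ fun y => ?_
      have hy := congrFun h (Pi.single j y)
      simpa [AddChar.mulShift_apply, dotProduct_single] using hy)
      (fun b => if hb : b ∈ s then c ⟨b, hb⟩ else 0) (by
        rw [← Finset.sum_coe_sort s]
        refine Eq.trans (Finset.sum_congr rfl fun b _ => ?_) hc
        rw [dif_pos b.2]) i.1 i.2
    simpa using h
  have := hli.fintype_card_le_finrank
  rw [Fintype.card_coe] at this
  omega

end Cfsg.Agent.Recog.CrossChar
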